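import Mathlib

/-! Quotients in categories like the topos of sheaves of sets: refinement, descent, kernel pairs. -/

set_option autoImplicit false

open CategoryTheory CategoryTheory.Limits

namespace ShfQuot

universe w v₁ u₁ v u

/-- Epimorphisms are effective and stable under pullback, and equivalence relations are universally
effective. -/
class QuotCat (E : Type u) [Category.{v} E] : Prop where
  effective : ∀ {X Y : E} (f : X ⟶ Y) [Epi f], EffectiveEpi f
  epi_stable : ∀ {P X Y Z : E} {fst : P ⟶ X} {snd : P ⟶ Y} {f : X ⟶ Z} {g : Y ⟶ Z},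
    IsPullback fst snd f g → Epi f → Epi snd
  ueer : ∀ {R X : E} (p₁ p₂ : R ⟶ X) [IsEquivalenceRelation p₁ p₂],
    IsUniversallyEffectiveEquivalenceRelation p₁ p₂

section SheafInstance

variable {C : Type u₁} [Category.{v₁} C] {J : GrothendieckTopology C} [HasSheafify J (Type w)]

theorem sheaf_epi_snd {P X Y Z : Sheaf J (Type w)} {fst : P ⟶ X} {snd : P ⟶ Y} {f : X ⟶ Z} {g : Y ⟶ Z}
    (sq : IsPullback fst snd f g) [Epi f] : Epi snd := by
  have : Sheaf.IsLocallySurjective f := (Sheaf.isLocallySurjective_iff_epi f).mpr inferInstance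
  have : Sheaf.IsLocallySurjective snd := ⟨fun {V} s => by
    refine J.superset_covering ?_ (Presheaf.imageSieve_mem J f.hom (U := Opposite.op V) (g.hom.app _ s))
    rintro W i ⟨x, hx⟩
    have hp := (sq.map (sheafToPresheaf J (Type w) ⋙ (evaluation _ _).obj (Opposite.op W)))
    obtain ⟨z, hz1, hz2⟩ := Types.exists_of_isPullback hp x (Y.obj.map i.op s) (by
      show f.hom.app _ x = g.hom.app _ _
      rw [hx, NatTrans.naturality_apply])
    exact ⟨z, hz2⟩⟩
  exact (Sheaf.isLocallySurjective_iff_epi snd).mp this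

theorem types_kernelPair {A X Q : Type w} {a b : A ⟶ X} {q : X ⟶ Q} (h : IsPushout a b q q)
    (hinj : ∀ x y : A, a x = a y → b x = b y → x = y)
    (heq : Equivalence fun x y => ∃ r, a r = x ∧ b r = y) : IsPullback a b q q := by
  rw [Types.isPullback_iff]
  refine ⟨h.w, fun x y hxy => hinj x y hxy.1 hxy.2, fun x y hxy => ?_⟩
  let S : Setoid X := ⟨_, heq⟩
  let f : X ⟶ Quotient S := ↾(Quotient.mk S)
  have hf : a ≫ f = b ≫ f := by
    ext r
    exact Quotient.sound (s := S) ⟨r, rfl, rfl⟩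
  have h1 : ∀ z, h.desc f f hf (q z) = f z := fun z => ConcreteCategory.congr_hom (h.inl_desc f f hf) z
  have := congrArg (h.desc f f hf) hxy
  rw [h1, h1] at this
  exact Quotient.exact this

theorem sheaf_isUEER     {R X : Sheaf J (Type w)} (p₁ p₂ : R ⟶ X) [IsEquivalenceRelation p₁ p₂] :
    IsUniversallyEffectiveEquivalenceRelation p₁ p₂ := by
  obtain ⟨e⟩ := IsEquivalenceRelation.nonempty_equivalenceRelation (p₁ := p₁) (p₂ := p₂)
  let U := sheafToPresheaf J (Type w)
  let L := presheafToSheaf J (Type w)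
  let ε := (sheafificationAdjunction J (Type w)).counit
  let a := U.map p₁
  let b := U.map p₂
  let q := coequalizer.π a b
  have hpo : IsPushout a b q q := by
    refine ⟨⟨coequalizer.condition a b⟩, ⟨PushoutCocone.IsColimit.mk _ (fun s => coequalizer.desc s.inl ?_) ?_ ?_ ?_⟩⟩
    · have hs : s.inl = s.inr := by
        have := U.map e.r ≫= s.condition
        rw [← Category.assoc, ← Category.assoc] at this
        erw [← U.map_comp, ← U.map_comp, e.reflexivity₁, e.reflexivity₂] at this
        erw [U.map_id, Category.id_comp, Category.id_comp] at this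
        exact this
      rw [s.condition, hs]
    · intro s
      exact coequalizer.π_desc _ _
    · intro s
      have hs : s.inl = s.inr := by
        have := U.map e.r ≫= s.condition
        rw [← Category.assoc, ← Category.assoc] at this
        erw [← U.map_comp, ← U.map_comp, e.reflexivity₁, e.reflexivity₂] at this
        erw [U.map_id, Category.id_comp, Category.id_comp] at this
        exact this
      exact (coequalizer.π_desc _ _).trans hs
    · intro s m h1 _
      exact coequalizer.hom_ext (h1.trans (coequalizer.π_desc _ _).symm)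
  have hpb : IsPullback a b q q := by
    refine IsPullback.of_forall_isPullback_app fun c => ?_
    let F : Sheaf J (Type w) ⥤ Type w := U ⋙ (evaluation _ _).obj c
    have hm : Mono (prod.lift p₁ p₂) := ⟨fun f g h => e.right_cancellation f g
      (by have := h =≫ prod.fst; erw [Category.assoc, Category.assoc, Limits.prod.lift_fst] at this; exact this)
      (by have := h =≫ prod.snd; erw [Category.assoc, Category.assoc, Limits.prod.lift_snd] at this; exact this)⟩
    have hinj : ∀ x y, F.map p₁ x = F.map p₁ y → F.map p₂ x = F.map p₂ y → x = y := by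
      intro x y h1 h2
      apply (mono_iff_injective (F.map (prod.lift p₁ p₂))).mp inferInstance
      refine Concrete.isLimit_ext _ (mapIsLimitOfPreservesOfIsLimit F _ _ (prodIsProd X X)) _ _ ?_
      rintro ⟨_ | _⟩
      · show F.map prod.fst _ = F.map prod.fst _
        rw [← ConcreteCategory.comp_apply, ← ConcreteCategory.comp_apply, ← F.map_comp, prod.lift_fst]
        exact h1
      · show F.map prod.snd _ = F.map prod.snd _
        rw [← ConcreteCategory.comp_apply, ← ConcreteCategory.comp_apply, ← F.map_comp, prod.lift_snd]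
        exact h2
    have hpb' : IsPullback (F.map e.c.fst) (F.map e.c.snd) (F.map p₂) (F.map p₁) :=
      (IsPullback.of_isLimit e.isLimit).map F
    have heq : Equivalence fun x y => ∃ r, F.map p₁ r = x ∧ F.map p₂ r = y := by
      refine ⟨fun x => ⟨F.map e.r x, ?_, ?_⟩, ?_, ?_⟩
      · rw [← ConcreteCategory.comp_apply, ← F.map_comp, e.reflexivity₁, F.map_id]; rfl
      · rw [← ConcreteCategory.comp_apply, ← F.map_comp, e.reflexivity₂, F.map_id]; rfl
      · rintro x y ⟨r, rfl, rfl⟩
        refine ⟨F.map e.s r, ?_, ?_⟩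
        · rw [← ConcreteCategory.comp_apply, ← F.map_comp, e.symmetry₁]
        · rw [← ConcreteCategory.comp_apply, ← F.map_comp, e.symmetry₂]
      · rintro x y z ⟨r, rfl, rfl⟩ ⟨r', h, rfl⟩
        obtain ⟨v, hv1, hv2⟩ := Types.exists_of_isPullback hpb' r r' h.symm
        refine ⟨F.map e.t v, ?_, ?_⟩
        · rw [← ConcreteCategory.comp_apply, ← F.map_comp, e.transitivity₁, F.map_comp, ConcreteCategory.comp_apply, hv1]
        · rw [← ConcreteCategory.comp_apply, ← F.map_comp, e.transitivity₂, F.map_comp, ConcreteCategory.comp_apply, hv2]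
    exact types_kernelPair (hpo.map ((evaluation _ _).obj c)) hinj heq
  let π : X ⟶ L.obj (coequalizer a b) := inv (ε.app X) ≫ L.map q
  have n1 : L.map a ≫ ε.app X = ε.app R ≫ p₁ := ε.naturality p₁
  have n2 : L.map b ≫ ε.app X = ε.app R ≫ p₂ := ε.naturality p₂
  have hk : IsKernelPair π p₁ p₂ :=
    (hpb.map L).of_iso (asIso (ε.app R)) (asIso (ε.app X)) (asIso (ε.app X)) (Iso.refl _) n1 n2
      (by simp [π]) (by simp [π])
  have hp : IsPushout p₁ p₂ π π :=
    (hpo.map L).of_iso (asIso (ε.app R)) (asIso (ε.app X)) (asIso (ε.app X)) (Iso.refl _) n1 n2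
      (by simp [π]) (by simp [π])
  refine ⟨⟨{ toEquivalenceRelation := e, B := _, π := π, isKernelPair := hk, isPushout := hp, universally_effectiveEpi_π := ?_ }⟩⟩
  have hepi : Epi π := epi_comp _ _
  intro Z W g h f sq
  have hsurj : Sheaf.IsLocallySurjective π := (Sheaf.isLocallySurjective_iff_epi π).mpr hepi
  have : Sheaf.IsLocallySurjective f := ⟨fun {V} s => by
    refine J.superset_covering ?_ (Presheaf.imageSieve_mem J π.hom (U := Opposite.op V) (h.hom.app _ s))
    rintro W' i ⟨x, hx⟩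
    have hp' := (sq.flip.map (U ⋙ (evaluation _ _).obj (Opposite.op W')))
    obtain ⟨z, hz1, hz2⟩ := Types.exists_of_isPullback hp' x (W.obj.map i.op s) (by
      show π.hom.app _ x = h.hom.app _ _
      rw [hx, NatTrans.naturality_apply])
    exact ⟨z, hz2⟩⟩
  have : Epi f := (Sheaf.isLocallySurjective_iff_epi f).mp this
  exact (isRegularEpi_iff_effectiveEpi f).mp (IsRegularEpiCategory.regularEpiOfEpi f)


instance : QuotCat (Sheaf J (Type w)) where
  effective f _ := (isRegularEpi_iff_effectiveEpi f).mp (IsRegularEpiCategory.regularEpiOfEpi f)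
  epi_stable sq h := @sheaf_epi_snd _ _ _ _ _ _ _ _ _ _ _ _ sq h
  ueer p₁ p₂ _ := sheaf_isUEER p₁ p₂

end SheafInstance

variable {E : Type u} [Category.{v} E] [QuotCat E] [HasPullbacks E] [HasCoequalizers E]

theorem effectiveEpi {X Y : E} (f : X ⟶ Y) [Epi f] : EffectiveEpi f :=
  QuotCat.effective f

theorem epi_snd {P X Y Z : E} {fst : P ⟶ X} {snd : P ⟶ Y} {f : X ⟶ Z} {g : Y ⟶ Z}
    (sq : IsPullback fst snd f g) [Epi f] : Epi snd :=
  QuotCat.epi_stable sq inferInstance

theorem universally_effectiveEpi {X Y : E} (f : X ⟶ Y) [Epi f] :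
    (MorphismProperty.universally (fun (A B : E) (p : A ⟶ B) => EffectiveEpi p)) f :=
  fun {P Q} g h f' sq => by
    have := epi_snd sq.flip
    exact effectiveEpi f'

theorem refine_epi {X Q T : E} (π : X ⟶ Q) [Epi π] (y : T ⟶ Q) :
    ∃ (T' : E) (c : T' ⟶ T) (_ : Epi c) (x : T' ⟶ X), c ≫ y = x ≫ π :=
  ⟨pullback π y, pullback.snd π y, epi_snd (IsPullback.of_hasPullback π y), pullback.fst π y,
    pullback.condition.symm⟩

theorem desc_of_epi {X Y Z : E} (c : X ⟶ Y) [Epi c] (f : X ⟶ Z)
    (h : ∀ {T : E} (a b : T ⟶ X), a ≫ c = b ≫ c → a ≫ f = b ≫ f) :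
    ∃ g : Y ⟶ Z, c ≫ g = f := by
  have := effectiveEpi c
  exact ⟨EffectiveEpi.desc c f h, EffectiveEpi.fac c f h⟩

theorem lift_through {X Y T T' : E} (m : X ⟶ Y) [Mono m] (c : T' ⟶ T) [Epi c]
    (y : T ⟶ Y) (x : T' ⟶ X) (h : x ≫ m = c ≫ y) : ∃ z : T ⟶ X, z ≫ m = y := by
  obtain ⟨z, hz⟩ := desc_of_epi c x fun a b hab => by
    rw [← cancel_mono m, Category.assoc, Category.assoc, h, reassoc_of% hab]
  exact ⟨z, by rw [← cancel_epi c, ← Category.assoc, hz, h]⟩

theorem factors_of_epi {Y T T' : E} (S : Subobject Y) (c : T' ⟶ T) [Epi c]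
    (y : T ⟶ Y) (h : S.Factors (c ≫ y)) : S.Factors y := by
  obtain ⟨z, hz⟩ := lift_through S.arrow c y (S.factorThru _ h) (S.factorThru_arrow _ h)
  rw [← hz]
  exact S.factors_comp_arrow z

theorem isIso_of_mono_epi {X Y : E} (f : X ⟶ Y) [Mono f] [Epi f] : IsIso f := by
  obtain ⟨z, hz⟩ := lift_through f f (𝟙 Y) (𝟙 X) (by simp)
  exact ⟨z, by rw [← cancel_mono f, Category.assoc, hz]; simp, hz⟩

theorem le_of_factors {Y : E} (S S' : Subobject Y)
    (h : ∀ {T : E} (x : T ⟶ Y), S.Factors x → S'.Factors x) : S ≤ S' :=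
  Subobject.le_of_comm (S'.factorThru _ (h S.arrow S.factors_self)) (S'.factorThru_arrow _ _)

theorem pullback_factors_iff {X Y T : E} (f : X ⟶ Y) (S : Subobject Y) (x : T ⟶ X) :
    ((Subobject.pullback f).obj S).Factors x ↔ S.Factors (x ≫ f) := by
  constructor
  · intro h
    rw [← Subobject.factorThru_arrow _ x h, Category.assoc, ← (Subobject.isPullback f S).w,
      ← Category.assoc]
    exact Subobject.factors_comp_arrow _
  · intro h
    have e := (Subobject.isPullback f S).lift_snd (S.factorThru _ h) x (by simp)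
    rw [← e]
    exact Subobject.factors_comp_arrow _

theorem mk_factors_iff {X Y T : E} (m : X ⟶ Y) [Mono m] (x : T ⟶ Y) :
    (Subobject.mk m).Factors x ↔ ∃ z : T ⟶ X, z ≫ m = x :=
  ⟨fun h => ⟨(Subobject.mk m).factorThru x h ≫ (Subobject.underlyingIso m).hom, by
    rw [Category.assoc, Subobject.underlyingIso_hom_comp_eq_mk, Subobject.factorThru_arrow]⟩,
    fun ⟨z, hz⟩ => ⟨z, hz⟩⟩

theorem pullback_obj_le_iff {X Y : E} (π : X ⟶ Y) [Epi π] (S S' : Subobject Y) :
    (Subobject.pullback π).obj S ≤ (Subobject.pullback π).obj S' ↔ S ≤ S' := by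
  refine ⟨fun h => le_of_factors _ _ fun x hx => ?_, fun h => (Subobject.pullback π).monotone h⟩
  obtain ⟨T', c, _, a, ha⟩ := refine_epi π x
  refine factors_of_epi S' c x ?_
  rw [ha, ← pullback_factors_iff]
  refine Subobject.factors_of_le a h ?_
  rw [pullback_factors_iff, ← ha]
  exact Subobject.factors_of_factors_right c hx

theorem pullback_obj_injective {X Y : E} (π : X ⟶ Y) [Epi π] :
    Function.Injective (Subobject.pullback π).obj := fun S S' h =>
  le_antisymm ((pullback_obj_le_iff π S S').1 h.le) ((pullback_obj_le_iff π S' S).1 h.ge)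

theorem exists_epi_mono {X Y : E} (f : X ⟶ Y) :
    ∃ (I : E) (e : X ⟶ I) (m : I ⟶ Y), Epi e ∧ Mono m ∧ e ≫ m = f := by
  refine ⟨coequalizer (pullback.fst f f) (pullback.snd f f), coequalizer.π _ _,
    coequalizer.desc f pullback.condition, inferInstance, ⟨fun {T} x y h => ?_⟩, coequalizer.π_desc _ _⟩
  obtain ⟨T1, c, _, a, ha⟩ := refine_epi (coequalizer.π (pullback.fst f f) (pullback.snd f f)) x
  obtain ⟨T2, d, _, b, hb⟩ :=
    refine_epi (coequalizer.π (pullback.fst f f) (pullback.snd f f)) (c ≫ y)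
  rw [← cancel_epi c, ← cancel_epi d, hb, ha]
  have hab : (d ≫ a) ≫ f = b ≫ f := by
    have h' := congrArg (fun z => d ≫ c ≫ z) h
    simp only [← Category.assoc] at h'
    rw [Category.assoc d, ha] at h'
    simp only [← Category.assoc] at hb
    rw [hb] at h'
    simpa using h'
  rw [← Category.assoc d]
  conv_lhs => rw [← pullback.lift_fst (d ≫ a) b hab]
  conv_rhs => rw [← pullback.lift_snd (d ≫ a) b hab]
  rw [Category.assoc, Category.assoc, coequalizer.condition]

/-- The quotient map of an equivalence relation has that relation as kernel pair. -/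
theorem isKernelPair_coequalizer {R X : E} (p₁ p₂ : R ⟶ X)
    (h : IsUniversallyEffectiveEquivalenceRelation p₁ p₂) :
    IsKernelPair (coequalizer.π p₁ p₂) p₁ p₂ := by
  obtain ⟨e⟩ := h.nonempty_universallyEffectiveEquivalenceRelation
  let i : coequalizer p₁ p₂ ≅ e.B :=
    IsColimit.coconePointUniqueUpToIso (coequalizerIsCoequalizer p₁ p₂) e.isCoequalizer
  have hi : coequalizer.π p₁ p₂ ≫ i.hom = e.π :=
    IsColimit.comp_coconePointUniqueUpToIso_hom (coequalizerIsCoequalizer p₁ p₂) e.isCoequalizer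
      WalkingParallelPair.one
  refine e.isKernelPair.of_iso (Iso.refl _) (Iso.refl _) (Iso.refl _) i.symm
    (by simp) (by simp) ?_ ?_ <;> simp [← hi]

theorem epi_π {R X : E} {p₁ p₂ : R ⟶ X}
    (e : EffectiveEquivalenceRelation p₁ p₂) : Epi e.π :=
  ⟨fun _ _ h => e.isPushout.hom_ext h h⟩

/-- `x, y` agree in the quotient iff they are related. -/
theorem rel_iff {R X Q T : E} {p₁ p₂ : R ⟶ X} {π : X ⟶ Q} (hk : IsKernelPair π p₁ p₂)
    (x y : T ⟶ X) : x ≫ π = y ≫ π ↔ ∃ r : T ⟶ R, r ≫ p₁ = x ∧ r ≫ p₂ = y :=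
  ⟨fun h => ⟨hk.lift x y h, hk.lift_fst _ _ _, hk.lift_snd _ _ _⟩,
    fun ⟨r, h₁, h₂⟩ => by rw [← h₁, ← h₂, Category.assoc, Category.assoc, hk.w]⟩

/-- Stable subobjects descend. -/
theorem exists_pullback_eq {R X Q : E} {p₁ p₂ : R ⟶ X} {π : X ⟶ Q}
    (hk : IsKernelPair π p₁ p₂) (S : Subobject X)
    (hS : (Subobject.pullback p₁).obj S = (Subobject.pullback p₂).obj S) :
    ∃ K : Subobject Q, (Subobject.pullback π).obj K = S := by
  obtain ⟨I, e, m, _, _, hem⟩ := exists_epi_mono (S.arrow ≫ π)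
  refine ⟨Subobject.mk m, le_antisymm (le_of_factors _ _ fun x hx => ?_) (le_of_factors _ _ fun x hx => ?_)⟩
  · rw [pullback_factors_iff, mk_factors_iff] at hx
    obtain ⟨z, hz⟩ := hx
    obtain ⟨T', c, _, a, ha⟩ := refine_epi e z
    refine factors_of_epi S c x ?_
    have h' : (a ≫ S.arrow) ≫ π = (c ≫ x) ≫ π := by
      rw [Category.assoc, ← hem, ← reassoc_of% ha, hz, Category.assoc]
    obtain ⟨r, hr1, hr2⟩ := (rel_iff hk _ _).1 h'
    have : ((Subobject.pullback p₁).obj S).Factors r := by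
      rw [pullback_factors_iff, hr1]; exact S.factors_comp_arrow a
    rw [hS, pullback_factors_iff, hr2] at this
    exact this
  · rw [pullback_factors_iff, mk_factors_iff]
    exact ⟨S.factorThru x hx ≫ e, by
      rw [Category.assoc, hem, Subobject.factorThru_arrow_assoc]⟩

theorem stable_of_pullback {R X Q : E} {p₁ p₂ : R ⟶ X} {π : X ⟶ Q}
    (h : p₁ ≫ π = p₂ ≫ π) (K : Subobject Q) :
    (Subobject.pullback p₁).obj ((Subobject.pullback π).obj K) =
      (Subobject.pullback p₂).obj ((Subobject.pullback π).obj K) := by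
  apply le_antisymm <;> refine le_of_factors _ _ fun x hx => ?_ <;>
    simp only [pullback_factors_iff, Category.assoc, h] at hx ⊢ <;> exact hx

theorem subobject_pullback_bijective {R X : E} {p₁ p₂ : R ⟶ X}
    (e : UniversallyEffectiveEquivalenceRelation p₁ p₂) :
    Function.Injective (Subobject.pullback e.π).obj ∧
      Set.range (Subobject.pullback e.π).obj =
        {Y : Subobject X | (Subobject.pullback p₁).obj Y = (Subobject.pullback p₂).obj Y} := by
  have := epi_π e.toEffectiveEquivalenceRelation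
  refine ⟨pullback_obj_injective e.π, Set.ext fun S => ⟨?_, fun hS => ?_⟩⟩
  · rintro ⟨K, rfl⟩; exact stable_of_pullback e.isKernelPair.w K
  · exact exists_pullback_eq e.isKernelPair S hS

theorem mono_quotient_map {R X Y : E} {p₁ p₂ : R ⟶ X}
    (e : UniversallyEffectiveEquivalenceRelation p₁ p₂) (ι : Y ⟶ X) [Mono ι]
    (g : coequalizer (pullback.fst (pullback.fst p₁ ι ≫ p₂) ι ≫ pullback.snd p₁ ι)
      (pullback.snd (pullback.fst p₁ ι ≫ p₂) ι) ⟶ e.B)
    (hg : coequalizer.π _ _ ≫ g = ι ≫ e.π) : Mono g := by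
  refine ⟨fun {T} x y h => ?_⟩
  set q := coequalizer.π (pullback.fst (pullback.fst p₁ ι ≫ p₂) ι ≫ pullback.snd p₁ ι)
      (pullback.snd (pullback.fst p₁ ι ≫ p₂) ι) with hq
  obtain ⟨T1, c, _, a, ha⟩ := refine_epi q x
  obtain ⟨T2, d, _, b, hb⟩ := refine_epi q (c ≫ y)
  rw [← cancel_epi c, ← cancel_epi d, hb, ha, ← Category.assoc]
  have hr : ((d ≫ a) ≫ ι) ≫ e.π = (b ≫ ι) ≫ e.π := by
    rw [Category.assoc, Category.assoc b, ← hg, Category.assoc d, ← reassoc_of% ha,
      ← reassoc_of% hb, h]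
  obtain ⟨r, hr1, hr2⟩ := (rel_iff e.isKernelPair _ _).1 hr
  let z₁ : T2 ⟶ pullback p₁ ι := pullback.lift r (d ≫ a) hr1
  have hz₁ : z₁ ≫ pullback.fst p₁ ι ≫ p₂ = b ≫ ι := by
    rw [← Category.assoc, pullback.lift_fst, hr2]
  obtain ⟨z, e1', e2⟩ : ∃ z : T2 ⟶ pullback (pullback.fst p₁ ι ≫ p₂) ι,
      z ≫ pullback.fst _ ι = z₁ ∧ z ≫ pullback.snd _ ι = b :=
    ⟨pullback.lift z₁ b hz₁, pullback.lift_fst _ _ _, pullback.lift_snd _ _ _⟩
  have e1 : z ≫ (pullback.fst (pullback.fst p₁ ι ≫ p₂) ι ≫ pullback.snd p₁ ι) = d ≫ a := by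
    rw [← Category.assoc, e1', pullback.lift_snd]
  rw [← e1, ← e2, Category.assoc z, hq, coequalizer.condition, Category.assoc]


end ShfQuot
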