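import Groth.Agent.ShfQuot.Basic

/-! Local detection of monos and epis; equivalence relations of presheaves. -/

set_option autoImplicit false

open CategoryTheory CategoryTheory.Limits

namespace ShfQuot

universe w v₁ u₁

variable {C : Type u₁} [Category.{v₁} C]

theorem mono_epi_of_locally (J : GrothendieckTopology C) {F G : Sheaf J (Type w)} (f : F ⟶ G) :
    ((∀ S : C, ∃ R : Sieve S, R ∈ J S ∧ ∀ ⦃T : C⦄ (g : T ⟶ S), R g →
        Mono ((J.overPullback (Type w) T).map f)) → Mono f) ∧
    ((∀ S : C, ∃ R : Sieve S, R ∈ J S ∧ ∀ ⦃T : C⦄ (g : T ⟶ S), R g →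
        Epi ((J.overPullback (Type w) T).map f)) → Epi f) := by
  refine ⟨fun h => ⟨fun {W} x y hxy => ?_⟩, fun h => ⟨fun {H} a b hab => ?_⟩⟩
  · ext ⟨S⟩ s
    obtain ⟨R, hR, hRf⟩ := h S
    refine (((isSheaf_iff_isSheaf_of_type _ _).1 F.property).isSeparated R hR).ext fun T g hg => ?_
    have := hRf g hg
    have hmono : Mono ((sheafToPresheaf (J.over T) (Type w)).map ((J.overPullback (Type w) T).map f)) :=
      inferInstance
    have hinj : Function.Injective (f.hom.app (Opposite.op T)) :=
      (mono_iff_injective _).1 ((NatTrans.mono_iff_mono_app _).1 hmono (Opposite.op (Over.mk (𝟙 T))))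
    show F.obj.map g.op (x.hom.app _ s) = F.obj.map g.op (y.hom.app _ s)
    rw [← NatTrans.naturality_apply, ← NatTrans.naturality_apply]
    apply hinj
    have := congrArg (fun z : W ⟶ G => z.hom.app (Opposite.op T) (W.obj.map g.op s)) hxy
    exact this
  · ext ⟨S⟩ s
    obtain ⟨R, hR, hRf⟩ := h S
    refine (((isSheaf_iff_isSheaf_of_type _ _).1 H.property).isSeparated R hR).ext fun T g hg => ?_
    have := hRf g hg
    have e : (J.overPullback (Type w) T).map a = (J.overPullback (Type w) T).map b := by
      rw [← cancel_epi ((J.overPullback (Type w) T).map f), ← Functor.map_comp, ← Functor.map_comp, hab]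
    show H.obj.map g.op (a.hom.app _ s) = H.obj.map g.op (b.hom.app _ s)
    rw [← NatTrans.naturality_apply, ← NatTrans.naturality_apply]
    exact congrArg (fun z : (J.overPullback (Type w) T).obj G ⟶ (J.overPullback (Type w) T).obj H =>
      z.hom.app (Opposite.op (Over.mk (𝟙 T))) (G.obj.map g.op s)) e

theorem presheaf_ueer {R X : Cᵒᵖ ⥤ Type w} (p₁ p₂ : R ⟶ X) [IsEquivalenceRelation p₁ p₂] :
    IsUniversallyEffectiveEquivalenceRelation p₁ p₂ := by
  obtain ⟨e⟩ := IsEquivalenceRelation.nonempty_equivalenceRelation (p₁ := p₁) (p₂ := p₂)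
  let q := coequalizer.π p₁ p₂
  have hs' : ∀ {Z : Cᵒᵖ ⥤ Type w} (l r : X ⟶ Z), p₁ ≫ l = p₂ ≫ r → l = r := fun l r h => by
    have := e.r ≫= h
    rwa [← Category.assoc, ← Category.assoc, e.reflexivity₁, e.reflexivity₂, Category.id_comp,
      Category.id_comp] at this
  have hpo : IsPushout p₁ p₂ q q := by
    refine ⟨⟨coequalizer.condition p₁ p₂⟩, ⟨PushoutCocone.IsColimit.mk _ (fun s => coequalizer.desc s.inl
      (by rw [s.condition, hs' _ _ s.condition])) (fun s => coequalizer.π_desc _ _)
      (fun s => (coequalizer.π_desc _ _).trans (hs' _ _ s.condition))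
      fun s m h1 _ => coequalizer.hom_ext (h1.trans (coequalizer.π_desc _ _).symm)⟩⟩
  have hpb : IsPullback p₁ p₂ q q := by
    refine IsPullback.of_forall_isPullback_app fun c => ?_
    let F := (evaluation Cᵒᵖ (Type w)).obj c
    have hm : Mono (prod.lift p₁ p₂) := ⟨fun f g h => e.right_cancellation f g
      (by have := h =≫ prod.fst; erw [Category.assoc, Category.assoc, Limits.prod.lift_fst] at this; exact this)
      (by have := h =≫ prod.snd; erw [Category.assoc, Category.assoc, Limits.prod.lift_snd] at this; exact this)⟩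
    have hinj : ∀ x y, F.map p₁ x = F.map p₁ y → F.map p₂ x = F.map p₂ y → x = y := by
      intro x y h1 h2
      apply (mono_iff_injective (F.map (prod.lift p₁ p₂))).mp inferInstance
      refine Concrete.isLimit_ext _ (mapIsLimitOfPreservesOfIsLimit F _ _ (prodIsProd X X)) _ _ ?_
      rintro ⟨_ | _⟩
      · show F.map prod.fst _ = F.map prod.fst _
        rw [← ConcreteCategory.comp_apply, ← ConcreteCategory.comp_apply, ← F.map_comp, prod.lift_fst]
        exact h1
      · show F.map prod.snd _ = F.map prod.snd _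
        rw [← ConcreteCategory.comp_apply, ← ConcreteCategory.comp_apply, ← F.map_comp, prod.lift_snd]
        exact h2
    have hpb' : IsPullback (F.map e.c.fst) (F.map e.c.snd) (F.map p₂) (F.map p₁) :=
      (IsPullback.of_isLimit e.isLimit).map F
    have heq : Equivalence fun x y => ∃ r, F.map p₁ r = x ∧ F.map p₂ r = y := by
      refine ⟨fun x => ⟨F.map e.r x, ?_, ?_⟩, ?_, ?_⟩
      · rw [← ConcreteCategory.comp_apply, ← F.map_comp, e.reflexivity₁, F.map_id]; rfl
      · rw [← ConcreteCategory.comp_apply, ← F.map_comp, e.reflexivity₂, F.map_id]; rfl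
      · rintro x y ⟨r, rfl, rfl⟩
        refine ⟨F.map e.s r, ?_, ?_⟩
        · rw [← ConcreteCategory.comp_apply, ← F.map_comp, e.symmetry₁]
        · rw [← ConcreteCategory.comp_apply, ← F.map_comp, e.symmetry₂]
      · rintro x y z ⟨r, rfl, rfl⟩ ⟨r', h, rfl⟩
        obtain ⟨v, hv1, hv2⟩ := Types.exists_of_isPullback hpb' r r' h.symm
        refine ⟨F.map e.t v, ?_, ?_⟩
        · rw [← ConcreteCategory.comp_apply, ← F.map_comp, e.transitivity₁, F.map_comp, ConcreteCategory.comp_apply, hv1]
        · rw [← ConcreteCategory.comp_apply, ← F.map_comp, e.transitivity₂, F.map_comp, ConcreteCategory.comp_apply, hv2]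
    exact types_kernelPair (hpo.map F) hinj heq
  refine ⟨⟨{ toEquivalenceRelation := e, B := _, π := q, isKernelPair := hpb, isPushout := hpo, universally_effectiveEpi_π := ?_ }⟩⟩
  intro Z W g h f sq
  have : Epi f := by
    rw [NatTrans.epi_iff_epi_app]
    intro c
    rw [epi_iff_surjective]
    intro s
    have hq : Function.Surjective (q.app c) := (epi_iff_surjective _).1 inferInstance
    obtain ⟨x, hx⟩ := hq (h.app c s)
    obtain ⟨z, hz1, hz2⟩ := Types.exists_of_isPullback (sq.flip.map ((evaluation _ _).obj c)) x s hx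
    exact ⟨z, hz2⟩
  exact (isRegularEpi_iff_effectiveEpi f).mp (IsRegularEpiCategory.regularEpiOfEpi f)

end ShfQuot
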