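import Groth.Agent.ShfQuot.Quot

/-! Correspondence, isomorphism theorems, points of quotients. -/

set_option autoImplicit false

open CategoryTheory CategoryTheory.Limits MonoidalCategory
open MonObj CartesianMonoidalCategory SemiCartesianMonoidalCategory

namespace ShfQuot

universe v u

variable {E : Type u} [Category.{v} E] [CartesianMonoidalCategory E] [QuotCat E] [HasPullbacks E]
  [HasCoequalizers E]

omit [QuotCat E] [HasPullbacks E] [HasCoequalizers E] in
theorem comp_whisker_mul {X Y T : E} [GrpObj X] (v : Y ⟶ X) (r : T ⟶ X ⊗ Y) :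
    r ≫ (X ◁ v) ≫ MonObj.mul = (r ≫ fst X Y) * ((r ≫ snd X Y) ≫ v) := by
  rw [Hom.mul_def, ← Category.assoc]
  congr 1
  apply CartesianMonoidalCategory.hom_ext <;> simp

omit [QuotCat E] [HasPullbacks E] [HasCoequalizers E] in
theorem comp_mul' {X T : E} [GrpObj X] (r : T ⟶ X ⊗ X) :
    r ≫ (MonObj.mul : X ⊗ X ⟶ X) = (r ≫ fst X X) * (r ≫ snd X X) := by
  rw [Hom.mul_def]; congr 1; apply CartesianMonoidalCategory.hom_ext <;> simp

theorem isKernelPair_sub {H L G : E} [hH : GrpObj H] [hL : GrpObj L] [hG : GrpObj G]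
    (u : H ⟶ G) (l : L ⟶ G) [hmu : Mono u] [hml : Mono l] [hu : IsMonHom u] [hl : IsMonHom l] :
    IsKernelPair (l ≫ proj u) (fst L (pullback u l)) ((L ◁ pullback.snd u l) ≫ hL.mul) := by
  refine IsPullback.mk' ?_ (fun {T} a b h₁ h₂ => ?_) (fun {T} x y h => ?_)
  · rw [← Category.assoc, ← Category.assoc (_ ≫ _) l, proj_eq_iff]
    refine ⟨snd _ _ ≫ pullback.fst u l, ?_⟩
    have e := comp_whisker_mul (pullback.snd u l) (𝟙 (L ⊗ pullback u l))
    simp only [Category.id_comp] at e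
    rw [e, MonObj.mul_comp]
    simp only [Category.assoc, pullback.condition]
  · rw [comp_whisker_mul, comp_whisker_mul, h₁, mul_right_inj, cancel_mono] at h₂
    exact CartesianMonoidalCategory.hom_ext _ _ h₁ h₂
  · rw [← Category.assoc, ← Category.assoc, proj_eq_iff] at h
    obtain ⟨k, hk⟩ := h
    have e : k ≫ u = (x⁻¹ * y) ≫ l := by
      rw [MonObj.mul_comp, GrpObj.inv_comp, hk, inv_mul_cancel_left]
    refine ⟨lift x (pullback.lift k _ e), lift_fst _ _, ?_⟩
    rw [comp_whisker_mul, lift_fst, lift_snd, pullback.lift_snd, mul_inv_cancel_left]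

/-- Subgroup subobjects. -/
theorem subgrp_iff {G : E} [hG : GrpObj G] (K : Subobject G) :
    (∃ str : GrpObj (K : E), @IsMonHom E _ _ _ _ str.toMonObj hG.toMonObj K.arrow) ↔
      ((∀ T : E, K.Factors (1 : T ⟶ G)) ∧
        (∀ {T : E} (x y : T ⟶ G), K.Factors x → K.Factors y → K.Factors (x * y)) ∧
        (∀ {T : E} (x : T ⟶ G), K.Factors x → K.Factors x⁻¹)) := by
  constructor
  · rintro ⟨str, h⟩
    refine ⟨fun T => ?_, fun x y hx hy => ?_, fun x hx => ?_⟩
    · rw [← MonObj.one_comp (X := T) K.arrow]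
      exact K.factors_comp_arrow _
    · rw [← K.factorThru_arrow x hx, ← K.factorThru_arrow y hy, ← MonObj.mul_comp]
      exact K.factors_comp_arrow _
    · rw [← K.factorThru_arrow x hx, ← GrpObj.inv_comp]
      exact K.factors_comp_arrow _
  · rintro ⟨h1, hm, hi⟩
    let m := K.arrow
    let o : 𝟙_ E ⟶ (K : E) := K.factorThru _ (h1 _)
    let mu : (K : E) ⊗ (K : E) ⟶ (K : E) := K.factorThru _
      (hm (fst _ _ ≫ m) (snd _ _ ≫ m) (K.factors_comp_arrow _) (K.factors_comp_arrow _))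
    let iv : (K : E) ⟶ (K : E) := K.factorThru _ (hi m K.factors_self)
    have ho : ∀ {T : E} (t : T ⟶ 𝟙_ E), t ≫ o ≫ m = 1 := fun t => by
      rw [Subobject.factorThru_arrow, MonObj.comp_one]
    have hmu : ∀ {T : E} (r : T ⟶ (K : E) ⊗ (K : E)),
        r ≫ mu ≫ m = (r ≫ fst _ _ ≫ m) * (r ≫ snd _ _ ≫ m) := fun r => by
      rw [Subobject.factorThru_arrow, MonObj.comp_mul]
    have hiv : iv ≫ m = m⁻¹ := Subobject.factorThru_arrow _ _ _
    let str : GrpObj (K : E) :=
      { one := o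
        mul := mu
        inv := iv
        one_mul := by
          rw [← cancel_mono m, Category.assoc, hmu]
          simp only [whiskerRight_fst_assoc, whiskerRight_snd_assoc, ho]
          rw [_root_.one_mul, leftUnitor_hom]
        mul_one := by
          rw [← cancel_mono m, Category.assoc, hmu]
          simp only [whiskerLeft_fst_assoc, whiskerLeft_snd_assoc, ho]
          rw [_root_.mul_one, rightUnitor_hom]
        mul_assoc := by
          rw [← cancel_mono m, Category.assoc, hmu, Category.assoc, Category.assoc, hmu]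
          simp only [whiskerRight_fst_assoc, whiskerRight_snd_assoc, whiskerLeft_fst_assoc,
            whiskerLeft_snd_assoc]
          rw [hmu, hmu, MonObj.comp_mul, _root_.mul_assoc]
          simp [MonObj.comp_mul]
        left_inv := by
          rw [← cancel_mono m, Category.assoc, hmu, Category.assoc, ho, lift_fst_assoc, lift_snd_assoc,
            hiv, Category.id_comp, inv_mul_cancel]
        right_inv := by
          rw [← cancel_mono m, Category.assoc, hmu, Category.assoc, ho, lift_fst_assoc, lift_snd_assoc,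
            hiv, Category.id_comp, mul_inv_cancel] }
    refine ⟨str, @IsMonHom.mk E _ _ _ _ str.toMonObj hG.toMonObj m ?_ ?_⟩
    · show o ≫ m = _
      rw [Subobject.factorThru_arrow, MonObj.one_eq_one]
    · show mu ≫ m = _
      rw [Subobject.factorThru_arrow, comp_mul']
      simp [m]

theorem correspondence {H G : E} [hH : GrpObj H] [hG : GrpObj G] (u : H ⟶ G) [hmu : Mono u]
    [hu : IsMonHom u] [hQ : GrpObj (Quot u)] [hπ : IsMonHom (proj u)] :
    Set.BijOn (Subobject.pullback (proj u)).obj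
      {K' : Subobject (Quot u) | ∃ str : GrpObj (K' : E),
          @IsMonHom E _ _ _ _ str.toMonObj hQ.toMonObj K'.arrow}
      {K : Subobject G | Subobject.mk u ≤ K ∧ ∃ str : GrpObj (K : E),
          @IsMonHom E _ _ _ _ str.toMonObj hG.toMonObj K.arrow} ∧
    ∀ (K' : Subobject (Quot u)),
      ((∀ (Y : E) (g : Y ⟶ Quot u) (k : Y ⟶ (K' : E)),
          ∃ k' : Y ⟶ (K' : E), g * (k ≫ K'.arrow) * g⁻¹ = k' ≫ K'.arrow) ↔
        (∀ (Y : E) (g : Y ⟶ G) (k : Y ⟶ ((Subobject.pullback (proj u)).obj K' : E)),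
          ∃ k' : Y ⟶ ((Subobject.pullback (proj u)).obj K' : E),
            g * (k ≫ ((Subobject.pullback (proj u)).obj K').arrow) * g⁻¹ =
              k' ≫ ((Subobject.pullback (proj u)).obj K').arrow)) := by
  refine ⟨⟨?_, fun a _ b _ h => pullback_obj_injective (proj u) h, ?_⟩, fun K' => ⟨fun h Y g k => ?_, fun h Y g k => ?_⟩⟩
  · intro K' hK'
    obtain ⟨h1, hm, hi⟩ := (subgrp_iff K').1 hK'
    refine ⟨le_of_factors _ _ fun x hx => ?_, (subgrp_iff _).2 ⟨fun T => ?_, fun x y hx hy => ?_, fun x hx => ?_⟩⟩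
    · obtain ⟨z, rfl⟩ := (mk_factors_iff u x).1 hx
      rw [pullback_factors_iff, ← _root_.one_mul (z ≫ u), proj_eq, MonObj.one_comp]
      exact h1 _
    · rw [pullback_factors_iff, MonObj.one_comp]; exact h1 T
    · rw [pullback_factors_iff, MonObj.mul_comp] at *; exact hm _ _ hx hy
    · rw [pullback_factors_iff, GrpObj.inv_comp] at *; exact hi _ hx
  · rintro K ⟨huK, hK⟩
    obtain ⟨h1, hm, hi⟩ := (subgrp_iff K).1 hK
    have huf : ∀ {T : E} (z : T ⟶ H), K.Factors (z ≫ u) := fun z =>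
      Subobject.factors_of_le _ huK ((mk_factors_iff u _).2 ⟨z, rfl⟩)
    obtain ⟨K', hK'⟩ := exists_pullback_eq (isKernelPair u) K (le_antisymm
      (le_of_factors _ _ fun x hx => by
        rw [pullback_factors_iff] at hx ⊢
        rw [comp_act]; exact hm _ _ hx (huf _))
      (le_of_factors _ _ fun x hx => by
        rw [pullback_factors_iff] at hx ⊢
        rw [comp_act] at hx
        have := hm _ _ hx (hi _ (huf (x ≫ snd G H)))
        rwa [mul_inv_cancel_right] at this))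
    refine ⟨K', (subgrp_iff K').2 ?_, hK'⟩
    have hf : ∀ {T : E} (x : T ⟶ G), K'.Factors (x ≫ proj u) ↔ K.Factors x := fun x => by
      rw [← hK', pullback_factors_iff]
    refine ⟨fun T => ?_, fun {T} x y hx hy => ?_, fun {T} x hx => ?_⟩
    · rw [← MonObj.one_comp (X := T) (proj u), hf]; exact h1 T
    · obtain ⟨T1, c, _, a, ha⟩ := refine_epi (proj u) x
      obtain ⟨T2, d, _, b, hb⟩ := refine_epi (proj u) (c ≫ y)
      refine factors_of_epi K' (d ≫ c) _ ?_
      rw [MonObj.comp_mul, Category.assoc, Category.assoc, hb, ha, ← Category.assoc,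
        ← MonObj.mul_comp, hf]
      refine hm _ _ ((hf _).1 ?_) ((hf _).1 ?_)
      · rw [Category.assoc, ← ha]; exact K'.factors_of_factors_right d (K'.factors_of_factors_right c hx)
      · rw [← hb]; exact K'.factors_of_factors_right d (K'.factors_of_factors_right c hy)
    · obtain ⟨T1, c, _, a, ha⟩ := refine_epi (proj u) x
      refine factors_of_epi K' c _ ?_
      rw [GrpObj.comp_inv, ha, ← GrpObj.inv_comp, hf]
      refine hi _ ((hf _).1 ?_)
      rw [← ha]; exact K'.factors_of_factors_right c hx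
  · have hk : K'.Factors ((k ≫ ((Subobject.pullback (proj u)).obj K').arrow) ≫ proj u) :=
      (pullback_factors_iff _ _ _).1 (Subobject.factors_comp_arrow k)
    obtain ⟨k', hk'⟩ := h Y (g ≫ proj u) (K'.factorThru _ hk)
    have hr : ((Subobject.pullback (proj u)).obj K').Factors
        (g * (k ≫ ((Subobject.pullback (proj u)).obj K').arrow) * g⁻¹) := by
      rw [pullback_factors_iff, MonObj.mul_comp, MonObj.mul_comp, GrpObj.inv_comp]
      rw [Subobject.factorThru_arrow] at hk'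
      rw [hk']
      exact K'.factors_comp_arrow k'
    exact ⟨_, (Subobject.factorThru_arrow _ _ hr).symm⟩
  · obtain ⟨T1, c, _, a, ha⟩ := refine_epi (proj u) g
    obtain ⟨T2, d, _, b, hb⟩ := refine_epi (proj u) (c ≫ k ≫ K'.arrow)
    have hbK : ((Subobject.pullback (proj u)).obj K').Factors b := by
      rw [pullback_factors_iff, ← hb, ← Category.assoc, ← Category.assoc]
      exact K'.factors_comp_arrow _
    obtain ⟨k', hk'⟩ := h T2 (d ≫ a) (Subobject.factorThru _ _ hbK)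
    rw [Subobject.factorThru_arrow] at hk'
    have hr : K'.Factors (g * (k ≫ K'.arrow) * g⁻¹) := by
      refine factors_of_epi K' (d ≫ c) _ ?_
      rw [MonObj.comp_mul, MonObj.comp_mul, GrpObj.comp_inv, Category.assoc, Category.assoc, ha, hb,
        ← Category.assoc, ← GrpObj.inv_comp, ← MonObj.mul_comp, ← MonObj.mul_comp,
        ← pullback_factors_iff, hk']
      exact Subobject.factors_comp_arrow _
    exact ⟨_, (Subobject.factorThru_arrow _ _ hr).symm⟩

theorem third_iso {H K G : E} [hH : GrpObj H] [hK : GrpObj K] [hG : GrpObj G]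
    (h : H ⟶ K) (k : K ⟶ G) [hmh : Mono h] [hmk : Mono k] [hh : IsMonHom h] [hk : IsMonHom k]
    (hn : ∀ (Y : E) (x : Y ⟶ K) (y : Y ⟶ H), ∃ y' : Y ⟶ H, x * (y ≫ h) * x⁻¹ = y' ≫ h)
    (act' : Quot (h ≫ k) ⊗ Quot h ⟶ Quot (h ≫ k))
    (hact : (proj (h ≫ k) ⊗ₘ proj h) ≫ act' = (G ◁ k) ≫ hG.mul ≫ proj (h ≫ k))
    (qbar : Quot (h ≫ k) ⟶ Quot k)
    (hq : proj (h ≫ k) ≫ qbar = proj k) :
    Mono (lift act' (fst _ _)) ∧
    ∃ wq : fst _ _ ≫ qbar = act' ≫ qbar, Nonempty (IsColimit (Cofork.ofπ qbar wq)) := by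
  have : Mono (h ≫ k) := mono_comp h k
  have hu : IsMonHom (h ≫ k) := inferInstance
  have := epi_tensor (proj (h ≫ k)) (proj h)
  have hal : ∀ {T : E} (a : T ⟶ G) (b : T ⟶ K),
      lift (a ≫ proj (h ≫ k)) (b ≫ proj h) ≫ act' = (a * (b ≫ k)) ≫ proj (h ≫ k) := fun a b => by
    rw [← lift_map_assoc, hact, ← Category.assoc (G ◁ k), ← Category.assoc, comp_whisker_mul,
      lift_fst, lift_snd]
  refine ⟨⟨fun {T} z z' hzz => ?_⟩, ?_, ?_⟩
  · have h1 := hzz =≫ fst _ _
    have h2 := hzz =≫ snd _ _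
    simp only [Category.assoc, lift_fst, lift_snd] at h1 h2
    obtain ⟨T1, c, _, a, ha⟩ := refine_epi (proj (h ≫ k)) (z ≫ fst _ _)
    obtain ⟨T2, d, _, b, hb⟩ := refine_epi (proj h) (c ≫ z ≫ snd _ _)
    obtain ⟨T3, e, _, b', hb'⟩ := refine_epi (proj h) (d ≫ c ≫ z' ≫ snd _ _)
    rw [← cancel_epi c, ← cancel_epi d, ← cancel_epi e]
    have ez : e ≫ d ≫ c ≫ z = lift ((e ≫ d ≫ a) ≫ proj (h ≫ k)) ((e ≫ b) ≫ proj h) := by
      apply CartesianMonoidalCategory.hom_ext
      · simp only [Category.assoc, lift_fst, ha]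
      · simp only [Category.assoc, lift_snd, hb]
    have ez' : e ≫ d ≫ c ≫ z' = lift ((e ≫ d ≫ a) ≫ proj (h ≫ k)) (b' ≫ proj h) := by
      apply CartesianMonoidalCategory.hom_ext
      · simp only [Category.assoc, lift_fst, ← h2, ha]
      · simp only [Category.assoc, lift_snd, hb']
    have h3 : (e ≫ d ≫ c ≫ z) ≫ act' = (e ≫ d ≫ c ≫ z') ≫ act' := by
      simp only [Category.assoc, h1]
    rw [ez, ez', hal, hal, proj_eq_iff] at h3
    obtain ⟨y, hy⟩ := h3
    rw [ez, ez']
    congr 1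
    rw [proj_eq_iff]
    refine ⟨y, ?_⟩
    rw [_root_.mul_assoc, mul_right_inj, ← Category.assoc y, ← MonObj.mul_comp, cancel_mono] at hy
    exact hy
  · rw [← cancel_epi (proj (h ≫ k) ⊗ₘ proj h), ← Category.assoc, tensorHom_fst, Category.assoc, hq,
      ← Category.assoc (proj (h ≫ k) ⊗ₘ proj h), hact, Category.assoc, Category.assoc, hq,
      ← Category.assoc (G ◁ k), ← coequalizer.condition (fst G K) (act k)]
  · have : Epi qbar := by
      have : Epi (proj (h ≫ k) ≫ qbar) := hq ▸ inferInstance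
      exact epi_of_epi (proj (h ≫ k)) qbar
    have hd : ∀ s : Cofork (fst (Quot (h ≫ k)) (Quot h)) act', ∃ g, qbar ≫ g = s.π := fun s =>
      desc_of_epi qbar s.π fun {T} z z' hzz => by
      obtain ⟨T1, c, _, a, ha⟩ := refine_epi (proj (h ≫ k)) z
      obtain ⟨T2, d, _, a', ha'⟩ := refine_epi (proj (h ≫ k)) (c ≫ z')
      rw [← cancel_epi c, ← cancel_epi d]
      have e : (d ≫ a) ≫ proj k = a' ≫ proj k := by
        rw [← hq, Category.assoc, ← reassoc_of% ha, ← reassoc_of% ha', hzz]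
      obtain ⟨b, hb⟩ := (proj_eq_iff k _ _).1 e
      have key := lift ((d ≫ a) ≫ proj (h ≫ k)) (b ≫ proj h) ≫= s.condition
      rw [← Category.assoc, ← Category.assoc, lift_fst, hal, ← hb] at key
      rw [reassoc_of% ha, reassoc_of% ha']
      simpa using key
    exact ⟨Cofork.IsColimit.mk' _ fun s => ⟨(hd s).choose, (hd s).choose_spec,
      fun {m} hm => by rw [← cancel_epi qbar]; exact hm.trans (hd s).choose_spec.symm⟩⟩

theorem quotient_points {R X : E} {p₁ p₂ : R ⟶ X}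
    (e : UniversallyEffectiveEquivalenceRelation p₁ p₂) (Y : E) :
    (∀ (Z : E) (j : Z ⟶ X ⊗ Y), Mono j →
      (∀ (W : E) (r : W ⟶ R) (y : W ⟶ Y),
        (∃ z : W ⟶ Z, z ≫ j = lift (r ≫ p₁) y) ↔ (∃ z : W ⟶ Z, z ≫ j = lift (r ≫ p₂) y)) →
      Epi (j ≫ snd X Y) →
      (∀ (W : E) (z₁ z₂ : W ⟶ Z), z₁ ≫ j ≫ snd X Y = z₂ ≫ j ≫ snd X Y →
        ∃ r : W ⟶ R, r ≫ p₁ = z₁ ≫ j ≫ fst X Y ∧ r ≫ p₂ = z₂ ≫ j ≫ fst X Y) →
      ∃! f : Y ⟶ e.B, IsPullback (j ≫ fst X Y) (j ≫ snd X Y) e.π f) ∧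
    (∀ f : Y ⟶ e.B, ∃ (Z : E) (j : Z ⟶ X ⊗ Y), Mono j ∧
      (∀ (W : E) (r : W ⟶ R) (y : W ⟶ Y),
        (∃ z : W ⟶ Z, z ≫ j = lift (r ≫ p₁) y) ↔ (∃ z : W ⟶ Z, z ≫ j = lift (r ≫ p₂) y)) ∧
      Epi (j ≫ snd X Y) ∧
      (∀ (W : E) (z₁ z₂ : W ⟶ Z), z₁ ≫ j ≫ snd X Y = z₂ ≫ j ≫ snd X Y →
        ∃ r : W ⟶ R, r ≫ p₁ = z₁ ≫ j ≫ fst X Y ∧ r ≫ p₂ = z₂ ≫ j ≫ fst X Y) ∧
      IsPullback (j ≫ fst X Y) (j ≫ snd X Y) e.π f) := by
  have := epi_π e.toEffectiveEquivalenceRelation
  refine ⟨fun Z j hι hst hepi hrel => ?_, fun f => ?_⟩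
  · obtain ⟨f, hf⟩ := desc_of_epi (j ≫ snd X Y) ((j ≫ fst X Y) ≫ e.π) fun {T} a b hab => by
      obtain ⟨r, hr1, hr2⟩ := hrel T a b hab
      rw [← Category.assoc, ← Category.assoc b, ← hr1, ← hr2, Category.assoc, Category.assoc,
        e.isKernelPair.w]
    refine ⟨f, IsPullback.mk' hf.symm (fun {T} a b h₁ h₂ => ?_) (fun {T} x y hxy => ?_),
      fun f' hf' => ?_⟩
    · rw [← cancel_mono j]
      apply CartesianMonoidalCategory.hom_ext <;> simpa
    · obtain ⟨T', c, _, z, hz⟩ := refine_epi (j ≫ snd X Y) y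
      have h1 : (c ≫ x) ≫ e.π = (z ≫ j ≫ fst X Y) ≫ e.π := by
        rw [Category.assoc c, hxy, ← Category.assoc c, hz, Category.assoc z, hf]
        simp only [Category.assoc]
      obtain ⟨r, hr1, hr2⟩ := (rel_iff e.isKernelPair _ _).1 h1
      obtain ⟨z', hz'⟩ := (hst T' r (c ≫ y)).2 ⟨z, by
        rw [hr2, hz]; apply CartesianMonoidalCategory.hom_ext <;> simp⟩
      obtain ⟨w, hw⟩ := lift_through j c (lift x y) z' (by rw [hz', hr1, comp_lift])
      refine ⟨w, ?_, ?_⟩
      · rw [← Category.assoc, hw, lift_fst]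
      · rw [← Category.assoc, hw, lift_snd]
    · rw [← cancel_epi (j ≫ snd X Y), hf, ← hf'.w]
  · refine ⟨pullback e.π f, lift (pullback.fst e.π f) (pullback.snd e.π f), ⟨fun {T} a b h => ?_⟩,
      fun W r y => ?_, ?_, fun W z₁ z₂ h => ?_, ?_⟩
    · have h1 := h =≫ fst X Y
      have h2 := h =≫ snd X Y
      simp only [Category.assoc, lift_fst, lift_snd] at h1 h2
      exact pullback.hom_ext h1 h2
    · have key : ∀ p : R ⟶ X, (∃ z, z ≫ lift (pullback.fst e.π f) (pullback.snd e.π f) = lift (r ≫ p) y) ↔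
          (r ≫ p) ≫ e.π = y ≫ f := fun p => ⟨fun ⟨z, hz⟩ => by
        have h1 := hz =≫ fst X Y
        have h2 := hz =≫ snd X Y
        simp only [Category.assoc, lift_fst, lift_snd] at h1 h2
        rw [← h1, ← h2, Category.assoc, Category.assoc, pullback.condition],
        fun hh => ⟨pullback.lift _ _ hh, by rw [comp_lift, pullback.lift_fst, pullback.lift_snd]⟩⟩
      rw [key, key, Category.assoc, Category.assoc, e.isKernelPair.w]
    · rw [lift_snd]; exact epi_snd (IsPullback.of_hasPullback e.π f)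
    · rw [lift_snd] at h
      simp only [lift_fst]
      refine (rel_iff e.isKernelPair _ _).1 ?_
      rw [Category.assoc, Category.assoc, pullback.condition, reassoc_of% h]
    · rw [lift_fst, lift_snd]; exact IsPullback.of_hasPullback e.π f

end ShfQuot
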