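import Groth.Agent.ShfQuot.Group

/-! The quotient group sheaf, the correspondence and the isomorphism theorems. -/

set_option autoImplicit false

open CategoryTheory CategoryTheory.Limits MonoidalCategory
open MonObj CartesianMonoidalCategory SemiCartesianMonoidalCategory

namespace ShfQuot

universe v u

variable {E : Type u} [Category.{v} E] [CartesianMonoidalCategory E] [QuotCat E] [HasPullbacks E]
  [HasCoequalizers E]

section

variable {H G : E} [hH : GrpObj H] [hG : GrpObj G] (u : H ⟶ G) [hmono : Mono u] [hu : IsMonHom u]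

/-- The quotient `G/H`. -/
noncomputable abbrev Quot : E := coequalizer (fst G H) (act u)

/-- The quotient map. -/
noncomputable abbrev proj : G ⟶ Quot u := coequalizer.π (fst G H) (act u)

include hmono hu in
theorem isKernelPair : IsKernelPair (proj u) (fst G H) (act u) :=
  isKernelPair_coequalizer _ _ (isUEER u)

include hmono hu in
theorem proj_eq_iff {T : E} (x y : T ⟶ G) :
    x ≫ proj u = y ≫ proj u ↔ ∃ h : T ⟶ H, y = x * (h ≫ u) := by
  rw [rel_iff (isKernelPair u)]
  constructor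
  · rintro ⟨r, rfl, rfl⟩
    exact ⟨r ≫ snd G H, comp_act u r⟩
  · rintro ⟨h, rfl⟩
    exact ⟨lift x h, lift_fst _ _, lift_act u x h⟩

theorem proj_eq {T : E} (x : T ⟶ G) (h : T ⟶ H) : (x * (h ≫ u)) ≫ proj u = x ≫ proj u := by
  rw [← lift_act, Category.assoc, ← coequalizer.condition, lift_fst_assoc]

theorem epi_whiskerLeft (Z : E) {A B : E} (k : A ⟶ B) [Epi k] : Epi (Z ◁ k) := by
  have sq : IsPullback (snd Z A) (Z ◁ k) k (snd Z B) := by
    refine IsPullback.mk' (by simp) (fun {T} a b h₁ h₂ => ?_) (fun {T} a b h => ?_)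
    · ext
      · have := h₂ =≫ fst Z B
        simpa using this
      · exact h₁
    · exact ⟨lift (b ≫ fst Z B) a, by simp, by ext <;> simp [h]⟩
  exact epi_snd sq

theorem epi_whiskerRight (Z : E) {A B : E} (k : A ⟶ B) [Epi k] : Epi (k ▷ Z) := by
  have sq : IsPullback (fst A Z) (k ▷ Z) k (fst B Z) := by
    refine IsPullback.mk' (by simp) (fun {T} a b h₁ h₂ => ?_) (fun {T} a b h => ?_)
    · ext
      · exact h₁
      · have := h₂ =≫ snd B Z
        simpa using this
    · exact ⟨lift a (b ≫ snd B Z), by simp, by ext <;> simp [h]⟩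
  exact epi_snd sq

theorem epi_tensor {X Y X' Y' : E} (f : X ⟶ Y) (g : X' ⟶ Y') [Epi f] [Epi g] : Epi (f ⊗ₘ g) := by
  have := epi_whiskerRight X' f
  have := epi_whiskerLeft Y g
  rw [MonoidalCategory.tensorHom_def]
  exact epi_comp _ _

include hmono hu in
theorem existsUnique_grpObj
    (hn : ∀ (Y : E) (g : Y ⟶ G) (h : Y ⟶ H), ∃ h' : Y ⟶ H, g * (h ≫ u) * g⁻¹ = h' ≫ u) :
    ∃! str : GrpObj (Quot u), @IsMonHom E _ _ G (Quot u) hG.toMonObj str.toMonObj (proj u) := by
  have hπ : Epi (proj u) := inferInstance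
  have hππ := epi_tensor (proj u) (proj u)
  have hl := epi_whiskerLeft (𝟙_ E) (proj u)
  have hr := epi_whiskerRight (𝟙_ E) (proj u)
  obtain ⟨mulQ, hmul⟩ := desc_of_epi (proj u ⊗ₘ proj u) (hG.mul ≫ proj u) fun {T} a b hab => by
    have h1 := hab =≫ fst (Quot u) (Quot u)
    have h2 := hab =≫ snd (Quot u) (Quot u)
    simp only [Category.assoc, tensorHom_fst, tensorHom_snd] at h1 h2
    rw [← Category.assoc, ← Category.assoc, proj_eq_iff] at h1 h2
    obtain ⟨k, hk⟩ := h1
    obtain ⟨l, hl⟩ := h2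
    obtain ⟨k', hk'⟩ := hn T (b ≫ snd G G)⁻¹ k
    have e : ∀ x : T ⟶ G ⊗ G, x ≫ hG.mul = (x ≫ fst G G) * (x ≫ snd G G) := fun x => by
      rw [Hom.mul_def]; congr 1; ext <;> simp
    rw [← Category.assoc, ← Category.assoc, proj_eq_iff, e a, e b]
    refine ⟨l * k', ?_⟩
    rw [MonObj.mul_comp, ← hk', hk, hl, inv_inv]
    group
  obtain ⟨invQ, hinv⟩ := desc_of_epi (proj u) (hG.inv ≫ proj u) fun {T} a b hab => by
    rw [proj_eq_iff] at hab
    obtain ⟨k, rfl⟩ := hab
    obtain ⟨k', hk'⟩ := hn T a k⁻¹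
    rw [← Category.assoc, ← Category.assoc, ← Hom.inv_def, ← Hom.inv_def, proj_eq_iff]
    refine ⟨k', ?_⟩
    rw [← hk', GrpObj.inv_comp]
    group
  have hml : ∀ {T : E} (a b : T ⟶ G),
      lift (a ≫ proj u) (b ≫ proj u) ≫ mulQ = (a * b) ≫ proj u := fun a b => by
    rw [← lift_map_assoc, hmul, ← Category.assoc, ← Hom.mul_def]
  have hw : hG.one ≫ proj u = hG.one ≫ proj u := rfl
  let str : GrpObj (Quot u) :=
    { one := hG.one ≫ proj u
      mul := mulQ
      inv := invQ
      one_mul := by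
        refine ((cancel_epi ((𝟙_ E) ◁ proj u)).1 ?_)
        have e1 : (𝟙_ E ◁ proj u) ≫ (hG.one ≫ proj u) ▷ Quot u =
            lift ((1 : 𝟙_ E ⊗ G ⟶ G) ≫ proj u) ((λ_ G).hom ≫ proj u) := by
          ext <;> simp [Hom.one_def, leftUnitor_hom]
        rw [← Category.assoc, e1, hml, _root_.one_mul]
        simp [leftUnitor_hom]
      mul_one := by
        refine ((cancel_epi (proj u ▷ (𝟙_ E))).1 ?_)
        have e1 : (proj u ▷ 𝟙_ E) ≫ Quot u ◁ (hG.one ≫ proj u) =
            lift ((ρ_ G).hom ≫ proj u) ((1 : G ⊗ 𝟙_ E ⟶ G) ≫ proj u) := by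
          ext <;> simp [Hom.one_def, rightUnitor_hom]
        rw [← Category.assoc, e1, hml, _root_.mul_one]
        simp [rightUnitor_hom]
      mul_assoc := by
        have he : ∀ {T : E} (x : T ⟶ G ⊗ G), x ≫ hG.mul = (x ≫ fst G G) * (x ≫ snd G G) := fun x => by
          rw [Hom.mul_def]; congr 1; ext <;> simp
        have := epi_tensor (proj u ⊗ₘ proj u) (proj u)
        refine (cancel_epi ((proj u ⊗ₘ proj u) ⊗ₘ proj u)).1 ?_
        have e1 : ((proj u ⊗ₘ proj u) ⊗ₘ proj u) ≫ mulQ ▷ Quot u =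
            lift ((fst (G ⊗ G) G ≫ fst G G * fst (G ⊗ G) G ≫ snd G G) ≫ proj u) (snd _ _ ≫ proj u) := by
          apply CartesianMonoidalCategory.hom_ext
          · simp only [Category.assoc, whiskerRight_fst, tensorHom_fst_assoc, lift_fst, hmul]
            rw [← Category.assoc, he]
          · simp
        have e2 : ((proj u ⊗ₘ proj u) ⊗ₘ proj u) ≫ (α_ _ _ _).hom ≫ Quot u ◁ mulQ =
            lift ((fst _ _ ≫ fst G G) ≫ proj u)
              ((fst (G ⊗ G) G ≫ snd G G * snd (G ⊗ G) G) ≫ proj u) := by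
          apply CartesianMonoidalCategory.hom_ext
          · simp
          · rw [lift_snd, ← hml, Category.assoc, Category.assoc, whiskerLeft_snd,
              ← Category.assoc (α_ _ _ _).hom, ← Category.assoc]
            congr 1
            apply CartesianMonoidalCategory.hom_ext <;> simp
        rw [← Category.assoc, e1, hml, ← Category.assoc (α_ _ _ _).hom, ← Category.assoc, e2, hml,
          _root_.mul_assoc]
      left_inv := by
        refine (cancel_epi (proj u)).1 ?_
        have key := hml hG.inv (𝟙 G)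
        rw [Category.id_comp, Hom.mul_def, GrpObj.left_inv] at key
        rw [← Category.assoc, comp_lift, hinv, Category.comp_id, key]
        simp
      right_inv := by
        refine (cancel_epi (proj u)).1 ?_
        have key := hml (𝟙 G) hG.inv
        rw [Category.id_comp, Hom.mul_def, GrpObj.right_inv] at key
        rw [← Category.assoc, comp_lift, hinv, Category.comp_id, key]
        simp }
  refine ⟨str, @IsMonHom.mk E _ _ G (Quot u) hG.toMonObj str.toMonObj (proj u) rfl hmul.symm,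
    fun str' h' => ?_⟩
  have hone' := h'.one_hom
  have hmul' := h'.mul_hom
  refine GrpObj.ext _ _ (MonObj.ext _ _ ?_)
  rw [← cancel_epi (proj u ⊗ₘ proj u), ← hmul']
  exact hmul.symm

include hmono hu in
theorem exists_act :
    ∃! a : G ⊗ Quot u ⟶ Quot u,
      (hG.one ▷ Quot u) ≫ a = (λ_ (Quot u)).hom ∧
        (hG.mul ▷ Quot u) ≫ a = (α_ G G (Quot u)).hom ≫ (G ◁ a) ≫ a ∧
        hG.mul ≫ proj u = (G ◁ proj u) ≫ a := by
  have hepi : ∀ (Z : E), Epi (Z ◁ proj u) := fun Z => by
    rw [← id_tensorHom]; exact epi_tensor _ _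
  have := hepi G
  have e : ∀ {T : E} (x : T ⟶ G ⊗ G), x ≫ hG.mul = (x ≫ fst G G) * (x ≫ snd G G) := fun x => by
    rw [Hom.mul_def]; congr 1; ext <;> simp
  obtain ⟨a, ha⟩ := desc_of_epi (G ◁ proj u) (hG.mul ≫ proj u) fun {T} x y hxy => by
    have h1 := hxy =≫ fst G (Quot u)
    have h2 := hxy =≫ snd G (Quot u)
    simp only [Category.assoc, whiskerLeft_fst, whiskerLeft_snd] at h1 h2
    rw [← Category.assoc, ← Category.assoc, proj_eq_iff] at h2
    obtain ⟨k, hk⟩ := h2
    rw [← Category.assoc, ← Category.assoc, proj_eq_iff, e x, e y, ← h1, hk]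
    exact ⟨k, (_root_.mul_assoc _ _ _).symm⟩
  have hal : ∀ {T : E} (g x : T ⟶ G), lift g (x ≫ proj u) ≫ a = (g * x) ≫ proj u := fun g x => by
    rw [← lift_whiskerLeft_assoc, ha, ← Category.assoc, ← Hom.mul_def]
  refine ⟨a, ⟨?_, ?_, ha.symm⟩, fun a' ⟨_, _, h3⟩ => ?_⟩
  · have := hepi (𝟙_ E)
    refine (cancel_epi (𝟙_ E ◁ proj u)).1 ?_
    have e1 : (𝟙_ E ◁ proj u) ≫ hG.one ▷ Quot u =
        lift (1 : 𝟙_ E ⊗ G ⟶ G) ((λ_ G).hom ≫ proj u) := by
      ext <;> simp [Hom.one_def, leftUnitor_hom]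
    rw [← Category.assoc, e1, hal, _root_.one_mul]
    simp [leftUnitor_hom]
  · have := hepi (G ⊗ G)
    refine (cancel_epi ((G ⊗ G) ◁ proj u)).1 ?_
    have e1 : ((G ⊗ G) ◁ proj u) ≫ hG.mul ▷ Quot u =
        lift (fst (G ⊗ G) G ≫ fst G G * fst (G ⊗ G) G ≫ snd G G) (snd _ _ ≫ proj u) := by
      apply CartesianMonoidalCategory.hom_ext
      · simp only [Category.assoc, whiskerRight_fst, whiskerLeft_fst_assoc, lift_fst]
        rw [e]
      · simp
    have e2 : ((G ⊗ G) ◁ proj u) ≫ (α_ _ _ _).hom ≫ G ◁ a =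
        lift (fst (G ⊗ G) G ≫ fst G G) ((fst (G ⊗ G) G ≫ snd G G * snd (G ⊗ G) G) ≫ proj u) := by
      apply CartesianMonoidalCategory.hom_ext
      · simp
      · rw [lift_snd, ← hal, Category.assoc, Category.assoc, whiskerLeft_snd,
          ← Category.assoc (α_ _ _ _).hom, ← Category.assoc]
        congr 1
        apply CartesianMonoidalCategory.hom_ext <;> simp
    rw [← Category.assoc, e1, hal, ← Category.assoc (α_ _ _ _).hom, ← Category.assoc, e2, hal,
      _root_.mul_assoc]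
  · rw [← cancel_epi (G ◁ proj u), ← h3, ha]

end

end ShfQuot
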