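import Groth.Agent.ShfQuot.Basic

/-! Quotients of sheaves of groups by subgroup sheaves. -/

set_option autoImplicit false

open CategoryTheory CategoryTheory.Limits MonoidalCategory
open MonObj CartesianMonoidalCategory SemiCartesianMonoidalCategory

namespace ShfQuot

universe v u

variable {E : Type u} [Category.{v} E] [CartesianMonoidalCategory E] [QuotCat E] [HasPullbacks E]
  [HasCoequalizers E]
variable {H G : E} [hH : GrpObj H] [hG : GrpObj G] (u : H ⟶ G) [Mono u] [IsMonHom u]

/-- Right multiplication `G ⊗ H ⟶ G`. -/
noncomputable abbrev act : G ⊗ H ⟶ G := (G ◁ u) ≫ hG.mul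

theorem comp_act {T : E} (r : T ⟶ G ⊗ H) :
    r ≫ act u = (r ≫ fst G H) * ((r ≫ snd G H) ≫ u) := by
  rw [Hom.mul_def, ← Category.assoc]
  congr 1
  ext <;> simp

theorem lift_act {T : E} (g : T ⟶ G) (h : T ⟶ H) :
    lift g h ≫ act u = g * (h ≫ u) := by simp [comp_act]

theorem isUEER : IsUniversallyEffectiveEquivalenceRelation (fst G H) (act u) := by
  have hr : IsEquivalenceRelation (fst G H) (act u) := by
    refine ⟨⟨{
      right_cancellation := fun {A} a b h₁ h₂ => by
        ext
        · exact h₁
        · rw [comp_act, comp_act, h₁, mul_right_inj, cancel_mono] at h₂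
          exact h₂
      r := lift (𝟙 G) 1
      reflexivity₁ := by simp
      reflexivity₂ := by rw [lift_act, MonObj.one_comp, _root_.mul_one]
      s := lift (act u) (snd G H)⁻¹
      symmetry₁ := by simp
      symmetry₂ := by
        rw [lift_act, GrpObj.inv_comp]
        have := comp_act u (𝟙 (G ⊗ H))
        simp only [Category.id_comp] at this
        rw [this, mul_inv_cancel_right]
      c := pullback.cone (act u) (fst G H)
      isLimit := pullback.isLimit (act u) (fst G H)
      t := lift (pullback.fst (act u) (fst G H) ≫ fst G H)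
        ((pullback.fst (act u) (fst G H) ≫ snd G H) * (pullback.snd (act u) (fst G H) ≫ snd G H))
      transitivity₁ := by simp [PullbackCone.fst, pullback.cone]
      transitivity₂ := by
        rw [lift_act, MonObj.mul_comp, ← _root_.mul_assoc, ← comp_act u, pullback.condition, ← comp_act]
        rfl }⟩⟩
  exact QuotCat.ueer (fst G H) (act u)

end ShfQuot
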